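import Groth.Agent.CompleteLib.Basic
import Groth.Agent.HenselLib.Local
import Mathlib

/-! Krasner-type descent of separable extensions of a completed discretely valued field. -/

set_option autoImplicit false
universe u

noncomputable section

namespace SepDescentLib

open Polynomial IsLocalRing
open scoped TensorProduct

set_option maxHeartbeats 1000000 in
theorem exists_descent {A K D Kh M : Type u} [CommRing A] [IsDomain A] [Field K] [Algebra A K] [IsFractionRing A K]
    [CommRing D] [IsDomain D] [IsDiscreteValuationRing D] [IsAdicComplete (maximalIdeal D) D] [Algebra A D]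
    [Field Kh] [Algebra D Kh] [IsFractionRing D Kh] [Algebra A Kh] [Algebra K Kh] [IsScalarTower A D Kh] [IsScalarTower A K Kh]
    [Field M] [Algebra Kh M] [FiniteDimensional Kh M] [Algebra.IsSeparable Kh M]
    (π : A) (hπ : maximalIdeal D = Ideal.span {algebraMap A D π})
    (hdense : ∀ d : D, ∃ a : A, d - algebraMap A D a ∈ maximalIdeal D) :
    ∃ (L : Type u) (_ : Field L) (_ : Algebra K L), FiniteDimensional K L ∧ Algebra.IsSeparable K L ∧
      Nonempty ((Kh ⊗[K] L) ≃ₐ[Kh] M) := by
  classical
  set p := algebraMap A D π with hp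
  have hp0 : p ≠ 0 := fun h0 => IsDiscreteValuationRing.not_a_field D (by rw [hπ, h0, Ideal.span_singleton_zero])
  have hpirr : Irreducible p := (IsDiscreteValuationRing.irreducible_iff_uniformizer p).2 hπ
  have happrox : ∀ (n : ℕ) (d : D), ∃ a : A, p ^ n ∣ d - algebraMap A D a := by
    intro n
    induction n with
    | zero => exact fun d => ⟨0, by simp⟩
    | succ n ih =>
      intro d
      obtain ⟨a, ha⟩ := hdense d
      rw [hπ, Ideal.mem_span_singleton'] at ha
      obtain ⟨e, he⟩ := ha
      obtain ⟨b, hb⟩ := ih e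
      refine ⟨a + π * b, ?_⟩
      rw [show d - algebraMap A D (a + π * b) = p * (e - algebraMap A D b) by rw [map_add, map_mul]; linear_combination -he, pow_succ']
      exact mul_dvd_mul_left p hb
  letI : Algebra D M := ((algebraMap Kh M).comp (algebraMap D Kh)).toAlgebra
  haveI : IsScalarTower D Kh M := IsScalarTower.of_algebraMap_eq fun _ => rfl
  letI : Algebra A M := ((algebraMap Kh M).comp (algebraMap A Kh)).toAlgebra
  haveI : IsScalarTower A Kh M := IsScalarTower.of_algebraMap_eq fun _ => rfl
  haveI : IsScalarTower A D M := IsScalarTower.of_algebraMap_eq fun a =>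
    congrArg (algebraMap Kh M) (IsScalarTower.algebraMap_apply A D Kh a)
  have hinjM : Function.Injective (algebraMap D M) := (algebraMap Kh M).injective.comp (IsFractionRing.injective D Kh)
  -- an integral primitive element
  obtain ⟨α₀, hα₀⟩ := Field.exists_primitive_element Kh M
  obtain ⟨m, hm⟩ := IsIntegral.exists_multiple_integral_of_isLocalization (nonZeroDivisors D) α₀ (Algebra.IsIntegral.isIntegral (R := Kh) α₀)
  set α : M := m • α₀ with hα
  have hm0 : algebraMap D Kh m ≠ 0 := (map_ne_zero_iff _ (IsFractionRing.injective D Kh)).2 (nonZeroDivisors.ne_zero m.2)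
  have hgen : IntermediateField.adjoin Kh {α} = ⊤ := by
    refine top_unique (hα₀ ▸ IntermediateField.adjoin_simple_le_iff.2 ?_)
    rw [show α₀ = (algebraMap Kh M (algebraMap D Kh m))⁻¹ * α by
      rw [hα, Submonoid.smul_def, Algebra.smul_def, IsScalarTower.algebraMap_apply D Kh M, inv_mul_cancel_left₀ ((_root_.map_ne_zero _).2 hm0)]]
    exact mul_mem (inv_mem (IntermediateField.algebraMap_mem _ _)) (IntermediateField.mem_adjoin_simple_self _ _)
  let f := minpoly D α
  have hf : f.Monic := minpoly.monic hm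
  have hfK : minpoly Kh α = f.map (algebraMap D Kh) := minpoly.isIntegrallyClosed_eq_field_fractions' Kh hm
  set d := f.natDegree with hd
  have hfr : Module.finrank Kh M = d := by
    rw [← IntermediateField.finrank_top', ← hgen, IntermediateField.adjoin.finrank (Algebra.IsIntegral.isIntegral α), hfK, hf.natDegree_map]
  let S := Algebra.adjoin D ({α} : Set M)
  haveI : Module.Finite D S := Module.Finite.iff_fg.2 hm.fg_adjoin_singleton
  let αS : S := ⟨α, Algebra.self_mem_adjoin_singleton D α⟩
  have hclear : ∀ x : M, ∃ b : D, b ≠ 0 ∧ algebraMap D M b * x ∈ S := by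
    intro x
    have hx : x ∈ Algebra.adjoin Kh {α} := by
      rw [← IntermediateField.adjoin_simple_toSubalgebra_of_isAlgebraic (Algebra.IsAlgebraic.isAlgebraic α), hgen]; trivial
    rw [Algebra.adjoin_singleton_eq_range_aeval] at hx
    obtain ⟨q, rfl⟩ := hx
    obtain ⟨b, hb⟩ := IsLocalization.integerNormalization_map_to_map (nonZeroDivisors D) q
    refine ⟨b, nonZeroDivisors.ne_zero b.2, ?_⟩
    have h1 := congrArg (aeval α) hb
    rw [aeval_map_algebraMap, ← IsScalarTower.algebraMap_smul Kh, map_smul, Algebra.smul_def, ← IsScalarTower.algebraMap_apply] at h1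
    show algebraMap D M b * aeval α q ∈ S
    rw [← h1]
    exact Polynomial.aeval_mem_adjoin_singleton D α
  have hsep : aeval α (derivative f) ≠ 0 := by
    have h1 := (Algebra.IsSeparable.isSeparable Kh α).aeval_derivative_ne_zero (minpoly.aeval Kh α)
    rwa [hfK, derivative_map, aeval_map_algebraMap] at h1
  obtain ⟨b, hb0, hb⟩ := hclear (aeval α (derivative f))⁻¹
  obtain ⟨c, w, rfl⟩ := IsDiscreteValuationRing.eq_unit_mul_pow_irreducible hb0 hpirr
  let pS : S := algebraMap D S p
  let t : S := algebraMap D S (w⁻¹ : Dˣ) * ⟨_, hb⟩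
  have ht : aeval αS (derivative f) * t = pS ^ c := Subtype.ext (by
    show ((aeval αS (derivative f) : S) : M) * (algebraMap D M (w⁻¹ : Dˣ) * (algebraMap D M (w * p ^ c) * (aeval α (derivative f))⁻¹)) = ((pS ^ c : S) : M)
    rw [show ((aeval αS (derivative f) : S) : M) = aeval α (derivative f) from (Polynomial.aeval_algHom_apply S.val αS _).symm,
      map_mul, SubmonoidClass.coe_pow, show ((pS : S) : M) = algebraMap D M p from rfl, map_pow]
    have hw : algebraMap D M (w⁻¹ : Dˣ) * algebraMap D M w = 1 := by rw [← map_mul, Units.inv_mul, map_one]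
    linear_combination (algebraMap D M p ^ c * aeval α (derivative f) * (aeval α (derivative f))⁻¹) * hw +
      (algebraMap D M p ^ c) * mul_inv_cancel₀ hsep)
  -- the nearby polynomial over the base
  choose a ha using fun i : ℕ => happrox (2 * c + 1) (f.coeff i)
  let g : A[X] := X ^ d + ∑ i ∈ Finset.range d, C (a i) * X ^ i
  have hg : g.Monic := monic_X_pow_add ((degree_sum_le _ _).trans_lt ((Finset.sup_lt_iff (WithBot.bot_lt_coe _)).2 fun i hi =>
    (degree_C_mul_X_pow_le _ _).trans_lt (by exact_mod_cast Finset.mem_range.1 hi)))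
  have hgd : g.natDegree = d := natDegree_eq_of_degree_eq_some (by
    rw [degree_add_eq_left_of_degree_lt, degree_X_pow]
    rw [degree_X_pow]
    exact (degree_sum_le _ _).trans_lt ((Finset.sup_lt_iff (WithBot.bot_lt_coe _)).2 fun i hi =>
      (degree_C_mul_X_pow_le _ _).trans_lt (by exact_mod_cast Finset.mem_range.1 hi)))
  obtain ⟨h, hh⟩ : C (p ^ (2 * c + 1)) ∣ g.map (algebraMap A D) - f := by
    refine (C_dvd_iff_dvd_coeff _ _).2 fun i => ?_
    rw [coeff_sub, coeff_map]
    rcases lt_trichotomy i d with hi | rfl | hi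
    · rw [show g.coeff i = a i by
        simp only [g, coeff_add, coeff_X_pow, finsetSum_coeff, coeff_C_mul, mul_ite, mul_one, mul_zero, if_neg hi.ne]
        simp [Finset.sum_ite_eq, hi], dvd_sub_comm]
      exact ha i
    · rw [show g.coeff d = 1 from hgd ▸ hg.coeff_natDegree, map_one, show f.coeff d = 1 from hf.coeff_natDegree, sub_self]
      exact dvd_zero _
    · rw [coeff_eq_zero_of_natDegree_lt (hgd ▸ hi), coeff_eq_zero_of_natDegree_lt (show f.natDegree < i from hi), map_zero, sub_self]
      exact dvd_zero _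
  -- Hensel
  let P : S[X] := g.map (algebraMap A S)
  have hP : ∀ q : A[X], (q.map (algebraMap A S)).eval αS = aeval αS (q.map (algebraMap A D)) := fun q => by
    rw [eval_map_algebraMap, aeval_map_algebraMap]
  have hf0 : aeval αS f = 0 := Subtype.ext ((Polynomial.aeval_algHom_apply S.val αS f).symm.trans (minpoly.aeval D α))
  have hP0 : P.eval αS = pS ^ (2 * c) * (pS * aeval αS h) := by
    rw [hP, sub_eq_iff_eq_add.1 hh, map_add, hf0, add_zero, map_mul, aeval_C, map_pow, pow_succ]; ring
  have hP1 : P.derivative.eval αS * t = pS ^ c * (1 + pS * (pS ^ c * aeval αS (derivative h) * t)) := by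
    rw [derivative_map, hP, ← derivative_map, sub_eq_iff_eq_add.1 hh, map_add, derivative_C_mul, map_add, map_mul, aeval_C,
      map_pow, add_mul, ht]
    ring
  haveI : IsNoetherianRing D := inferInstance
  haveI hcS : IsAdicComplete ((maximalIdeal D).map (algebraMap D S)) S :=
    (IsAdicComplete.map_algebraMap_iff _ _).2 (CompleteLib.isAdicComplete_of_finite (I := maximalIdeal D) (M := S))
  set I := (maximalIdeal D).map (algebraMap D S) with hIdef
  have hpI : pS ∈ I := Ideal.mem_map_of_mem _ (hπ ▸ Ideal.mem_span_singleton_self p)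
  obtain ⟨k, hk⟩ := Polynomial.binomExpansion (P.map C) (C αS) (C (pS ^ c * t) * X)
  simp only [eval_map, eval₂_at_apply, derivative_map] at hk
  let e : S := 1 + pS * (pS ^ c * aeval αS (derivative h) * t)
  let G : S[X] := C (pS * aeval αS h) + C e * X + k * C (t ^ 2) * X ^ 2
  obtain ⟨u, hu, hu0⟩ := HenselLib.exists_root_lift (I := I) G 0
    (by simpa [G] using I.mul_mem_right _ hpI)
    (by
      rw [show G.derivative.eval 0 = e by simp [G]]
      simp [e, Ideal.Quotient.eq_zero_iff_mem.2 hpI])
  let β : S := αS + pS ^ c * t * u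
  have hβ : P.eval β = 0 := by
    have h1 := congrArg (Polynomial.eval u) hk
    rw [← Polynomial.coe_evalRingHom, Polynomial.hom_eval₂] at h1
    simp only [coe_evalRingHom, eval_add, eval_mul, eval_pow, eval_C, eval_X] at h1
    rw [show (evalRingHom u).comp C = RingHom.id S from RingHom.ext fun s => eval_C, eval₂_id] at h1
    refine h1.trans ?_
    have h2 : G.eval u = 0 := hu
    simp only [G, eval_add, eval_mul, eval_pow, eval_C, eval_X] at h2
    rw [hP0]
    linear_combination (pS ^ (2 * c)) * h2 + (pS ^ c * u) * hP1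
  have hβgen : Algebra.adjoin D {β} = (⊤ : Subalgebra D S) := by
    refine Algebra.toSubmodule_eq_top.1 (top_le_iff.1 (Submodule.le_of_le_smul_of_le_jacobson_bot Module.Finite.fg_top
      (IsLocalRing.maximalIdeal_le_jacobson _) fun x hxT => ?_))
    clear hxT
    rw [Ideal.smul_top_eq_map, Submodule.mem_sup]
    suffices hs : ∃ y ∈ Algebra.adjoin D {β}, x - y ∈ I by
      obtain ⟨y, hy, hxy⟩ := hs
      exact ⟨y, hy, x - y, hxy, add_sub_cancel _ _⟩
    obtain ⟨x, hx⟩ := x
    induction hx using Algebra.adjoin_induction with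
    | mem z hz =>
      obtain rfl := Set.mem_singleton_iff.1 hz
      refine ⟨β, Algebra.self_mem_adjoin_singleton D β, ?_⟩
      rw [show (⟨α, _⟩ : S) - β = -(pS ^ c * t * u) by show αS - (αS + _) = _; ring]
      exact neg_mem (Ideal.mul_mem_left _ _ (by simpa using hu0))
    | algebraMap r => exact ⟨algebraMap D S r, Subalgebra.algebraMap_mem _ _, by
        rw [show (⟨algebraMap D M r, _⟩ : S) = algebraMap D S r from rfl, sub_self]; exact zero_mem _⟩
    | add x y hx hy ihx ihy =>
      obtain ⟨x', hx', hxx⟩ := ihx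
      obtain ⟨y', hy', hyy⟩ := ihy
      refine ⟨x' + y', add_mem hx' hy', ?_⟩
      rw [show (⟨x + y, _⟩ : S) - (x' + y') = ((⟨x, hx⟩ : S) - x') + ((⟨y, hy⟩ : S) - y') by
        show (⟨x, hx⟩ : S) + ⟨y, hy⟩ - (x' + y') = _; ring]
      exact add_mem hxx hyy
    | mul x y hx hy ihx ihy =>
      obtain ⟨x', hx', hxx⟩ := ihx
      obtain ⟨y', hy', hyy⟩ := ihy
      refine ⟨x' * y', mul_mem hx' hy', ?_⟩
      rw [show (⟨x * y, _⟩ : S) - x' * y' = ((⟨x, hx⟩ : S) - x') * ⟨y, hy⟩ + x' * ((⟨y, hy⟩ : S) - y') by
        show (⟨x, hx⟩ : S) * ⟨y, hy⟩ - x' * y' = _; ring]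
      exact add_mem (I.mul_mem_right _ hxx) (I.mul_mem_left _ hyy)
  set βM : M := (β : M) with hβM
  have hroot : aeval βM g = 0 := by
    rw [show βM = (IsScalarTower.toAlgHom A S M) β from rfl, Polynomial.aeval_algHom_apply, ← eval_map_algebraMap, hβ, map_zero]
  have htop : IntermediateField.adjoin Kh {βM} = ⊤ := by
    refine top_unique (hgen ▸ IntermediateField.adjoin_simple_le_iff.2 ?_)
    have h1 : αS ∈ Algebra.adjoin D {β} := hβgen ▸ Algebra.mem_top
    rw [Algebra.adjoin_singleton_eq_range_aeval] at h1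
    obtain ⟨q, hq⟩ := h1
    rw [show α = ((aeval β q : S) : M) from congrArg Subtype.val hq.symm,
      show ((aeval β q : S) : M) = aeval βM q from (Polynomial.aeval_algHom_apply S.val β q).symm, ← aeval_map_algebraMap Kh]
    exact IntermediateField.algebra_adjoin_le_adjoin Kh _ (Polynomial.aeval_mem_adjoin_singleton Kh βM)
  let gK : K[X] := g.map (algebraMap A K)
  have hgKh : gK.map (algebraMap K Kh) = minpoly Kh βM := by
    refine Polynomial.eq_of_monic_of_dvd_of_natDegree_le (minpoly.monic (Algebra.IsIntegral.isIntegral βM)) ((hg.map _).map _)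
      (minpoly.dvd Kh βM (by
        rw [map_map, ← IsScalarTower.algebraMap_eq, aeval_map_algebraMap]; exact hroot)) ?_
    rw [(hg.map _).natDegree_map, hg.natDegree_map, hgd, ← hfr, ← IntermediateField.finrank_top', ← htop,
      IntermediateField.adjoin.finrank (Algebra.IsIntegral.isIntegral βM)]
  have hirr : Irreducible gK := (hg.map _).irreducible_of_irreducible_map (algebraMap K Kh) gK
    (hgKh ▸ minpoly.irreducible (Algebra.IsIntegral.isIntegral βM))
  have hsepK : gK.Separable := (Polynomial.separable_map (algebraMap K Kh)).1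
    (hgKh ▸ Algebra.IsSeparable.isSeparable Kh βM)
  haveI := Fact.mk hirr
  letI : Algebra K M := ((algebraMap Kh M).comp (algebraMap K Kh)).toAlgebra
  haveI : IsScalarTower K Kh M := IsScalarTower.of_algebraMap_eq fun _ => rfl
  haveI hfin : FiniteDimensional K (AdjoinRoot gK) := (AdjoinRoot.powerBasis hirr.ne_zero).finite
  haveI : Algebra.IsSeparable K (AdjoinRoot gK) := by
    have h1 : IsSeparable K (AdjoinRoot.root gK) := hsepK.of_dvd (minpoly.dvd K _ (AdjoinRoot.aeval_eq gK ▸ AdjoinRoot.mk_self))
    have h2 : IntermediateField.adjoin K {AdjoinRoot.root gK} = ⊤ := top_unique fun x _ =>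
      IntermediateField.algebra_adjoin_le_adjoin K _ (AdjoinRoot.adjoinRoot_eq_top (f := gK) ▸ Algebra.mem_top)
    exact (IntermediateField.isSeparable_adjoin_simple_iff_isSeparable K _).2 h1 |> fun h3 => by rw [h2] at h3; exact AlgEquiv.Algebra.isSeparable IntermediateField.topEquiv
  let ψ : AdjoinRoot gK →ₐ[K] M := AdjoinRoot.liftAlgHom gK (Algebra.ofId K M) βM (by
    show eval₂ (algebraMap K M) βM gK = 0
    rw [← aeval_def, ← aeval_map_algebraMap Kh, hgKh, minpoly.aeval])
  let φ : Kh ⊗[K] AdjoinRoot gK →ₐ[Kh] M := Algebra.TensorProduct.lift (Algebra.ofId Kh M) ψ fun _ _ => Commute.all _ _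
  have hsurj : Function.Surjective φ := by
    have hmem : βM ∈ φ.range := ⟨1 ⊗ₜ AdjoinRoot.root gK, by
      show φ (1 ⊗ₜ AdjoinRoot.root gK) = βM
      rw [Algebra.TensorProduct.lift_tmul, map_one, one_mul]
      exact AdjoinRoot.liftAlgHom_root ..⟩
    intro x
    have hx : x ∈ Algebra.adjoin Kh {βM} := by
      rw [← IntermediateField.adjoin_simple_toSubalgebra_of_isAlgebraic (Algebra.IsAlgebraic.isAlgebraic βM), htop]; trivial
    exact Algebra.adjoin_le (Set.singleton_subset_iff.2 hmem) hx
  have hrank : Module.finrank Kh (Kh ⊗[K] AdjoinRoot gK) = Module.finrank Kh M := by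
    rw [Module.finrank_baseChange, (AdjoinRoot.powerBasis hirr.ne_zero).finrank, AdjoinRoot.powerBasis_dim, hg.natDegree_map, hgd, hfr]
  refine ⟨AdjoinRoot gK, inferInstance, inferInstance, hfin, inferInstance, ⟨AlgEquiv.ofBijective φ ⟨?_, hsurj⟩⟩⟩
  exact (LinearMap.injective_iff_surjective_of_finrank_eq_finrank hrank (f := φ.toLinearMap)).2 hsurj

end SepDescentLib
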